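import Groth.Prelude.Def_CohTop
import Mathlib.Algebra.Homology.DerivedCategory.Ext.ExactSequences
import Mathlib.CategoryTheory.Sites.SheafCohomology.Basic
import Groth.Agent.Coherent.K56.PMap

/-!
# Endomorphisms of short exact sequences and `H¹`

An endomorphism of a short exact sequence `0 ⟶ A ⟶ B ⟶ C ⟶ 0` of abelian sheaves which is an isomorphism on `C`
and surjective on `H⁰(B)`: it is bijective on `H¹(A)` if and only if it is on `H¹(B)` (when `H²(A) = 0`).
-/

set_option autoImplicit false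

universe u

open CategoryTheory CategoryTheory.Limits AlgebraicGeometry TopologicalSpace Opposite

namespace K675.EndoSeq

variable {X : TopCat.{u}} {S : ShortComplex (CohTop.Ab X)}

/-- the connecting map -/
noncomputable abbrev del (hS : S.ShortExact) {n m : ℕ} (h : n + 1 = m) (y : Sheaf.H S.X₃ n) : Sheaf.H S.X₁ m :=
  Abelian.Ext.comp y hS.extClass h

lemma del_add (hS : S.ShortExact) {n m : ℕ} (h : n + 1 = m) (y z : Sheaf.H S.X₃ n) :
    del hS h (y + z) = del hS h y + del hS h z := Abelian.Ext.add_comp _ _ _ _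

lemma map_del (hS : S.ShortExact) (φ : S ⟶ S) {n m : ℕ} (h : n + 1 = m) (y : Sheaf.H S.X₃ n) :
    Sheaf.H.map φ.τ₁ m (del hS h y) = del hS h (Sheaf.H.map φ.τ₃ n y) := by
  have h1 := ShortComplex.ShortExact.extClass_naturality hS hS φ
  refine (Abelian.Ext.comp_assoc y hS.extClass (Abelian.Ext.mk₀ φ.τ₁) h (add_zero 1) (by omega)).trans ?_
  refine Eq.trans ?_ (Abelian.Ext.comp_assoc y (Abelian.Ext.mk₀ φ.τ₃) hS.extClass (add_zero n) (zero_add 1)
    (by omega)).symm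
  exact congrArg (fun t => Abelian.Ext.comp y t h) h1

lemma del_map_g (hS : S.ShortExact) {n m : ℕ} (h : n + 1 = m) (z : Sheaf.H S.X₂ n) :
    del hS h (Sheaf.H.map S.g n z) = 0 := by
  refine (Abelian.Ext.comp_assoc z (Abelian.Ext.mk₀ S.g) hS.extClass (add_zero n) (zero_add 1) (by omega)).trans ?_
  rw [hS.comp_extClass, Abelian.Ext.comp_zero]

lemma map_f_del (hS : S.ShortExact) {n m : ℕ} (h : n + 1 = m) (y : Sheaf.H S.X₃ n) :
    Sheaf.H.map S.f m (del hS h y) = 0 := by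
  refine (Abelian.Ext.comp_assoc y hS.extClass (Abelian.Ext.mk₀ S.f) h (add_zero 1) (by omega)).trans ?_
  rw [hS.extClass_comp, Abelian.Ext.comp_zero]

lemma map_map {A B C : CohTop.Ab X} (f : A ⟶ B) (g : B ⟶ C) (n : ℕ) (x : Sheaf.H A n) :
    Sheaf.H.map g n (Sheaf.H.map f n x) = Sheaf.H.map (f ≫ g) n x :=
  (Sheaf.H.map_comp_apply ..).symm

lemma comm₁₂ (φ : S ⟶ S) (n : ℕ) (x : Sheaf.H S.X₁ n) :
    Sheaf.H.map φ.τ₂ n (Sheaf.H.map S.f n x) = Sheaf.H.map S.f n (Sheaf.H.map φ.τ₁ n x) := by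
  rw [map_map, map_map, φ.comm₁₂]

lemma comm₂₃ (φ : S ⟶ S) (n : ℕ) (x : Sheaf.H S.X₂ n) :
    Sheaf.H.map φ.τ₃ n (Sheaf.H.map S.g n x) = Sheaf.H.map S.g n (Sheaf.H.map φ.τ₂ n x) := by
  rw [map_map, map_map, φ.comm₂₃]

lemma map_g_f (n : ℕ) (x : Sheaf.H S.X₁ n) : Sheaf.H.map S.g n (Sheaf.H.map S.f n x) = 0 := by
  rw [map_map, S.zero]
  have h : Abelian.Ext.mk₀ (0 : S.X₁ ⟶ S.X₃) = 0 := Abelian.Ext.mk₀_zero _ _
  refine (congrArg (fun t => Abelian.Ext.comp x t (add_zero n)) h).trans ?_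
  exact Abelian.Ext.comp_zero x S.X₃ 0 n (add_zero n)

lemma bij_of_isIso {A B : CohTop.Ab X} (f : A ⟶ B) [IsIso f] (n : ℕ) :
    Function.Bijective (Sheaf.H.map f n) := by
  constructor
  · intro x y h
    have := congrArg (Sheaf.H.map (inv f) n) h
    rwa [map_map, map_map, IsIso.hom_inv_id, Sheaf.H.map_id_apply, Sheaf.H.map_id_apply] at this
  · intro y
    exact ⟨Sheaf.H.map (inv f) n y, by rw [map_map, IsIso.inv_hom_id, Sheaf.H.map_id_apply]⟩

theorem exists_of_map_f_eq_zero (hS : S.ShortExact) {n m : ℕ} (h : n + 1 = m) (x : Sheaf.H S.X₁ m)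
    (hx : Sheaf.H.map S.f m x = 0) : ∃ y, del hS h y = x :=
  Abelian.Ext.covariant_sequence_exact₁ _ hS x hx h

theorem exists_of_map_g_eq_zero (hS : S.ShortExact) {n : ℕ} (x : Sheaf.H S.X₂ n)
    (hx : Sheaf.H.map S.g n x = 0) : ∃ y, Sheaf.H.map S.f n y = x :=
  Abelian.Ext.covariant_sequence_exact₂ _ hS x hx

theorem exists_of_del_eq_zero (hS : S.ShortExact) {n m : ℕ} (h : n + 1 = m) (x : Sheaf.H S.X₃ n)
    (hx : del hS h x = 0) : ∃ y, Sheaf.H.map S.g n y = x :=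
  Abelian.Ext.covariant_sequence_exact₃ _ hS x h hx

/-- The main statement, in all degrees. -/
theorem bijective_iff (hS : S.ShortExact) (φ : S ⟶ S) (hφ : IsIso φ.τ₃) (n : ℕ)
    (h0 : Function.Surjective (Sheaf.H.map φ.τ₂ n))
    (h2 : Function.Injective (Sheaf.H.map φ.τ₁ (n + 2))) :
    Function.Bijective (Sheaf.H.map φ.τ₁ (n + 1)) ↔ Function.Bijective (Sheaf.H.map φ.τ₂ (n + 1)) := by
  have hi := fun i => bij_of_isIso φ.τ₃ i
  constructor
  · intro h
    constructor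
    · rw [injective_iff_map_eq_zero]
      intro w hw
      have h3 : Sheaf.H.map S.g (n + 1) w = 0 := by
        apply (hi (n + 1)).1
        rw [comm₂₃, hw, map_zero, map_zero]
      obtain ⟨x, rfl⟩ := exists_of_map_g_eq_zero hS w h3
      rw [comm₁₂] at hw
      obtain ⟨y, hy⟩ := exists_of_map_f_eq_zero hS rfl _ hw
      obtain ⟨y', rfl⟩ := (hi n).2 y
      rw [← map_del] at hy
      rw [← h.1 hy, map_f_del]
    · intro w
      obtain ⟨t, ht⟩ := (hi (n + 1)).2 (Sheaf.H.map S.g (n + 1) w)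
      have h3 : del hS (rfl : n + 1 + 1 = n + 2) t = 0 := by
        apply h2
        rw [map_del, ht, del_map_g, map_zero]
      obtain ⟨w', rfl⟩ := exists_of_del_eq_zero hS rfl t h3
      have h4 : Sheaf.H.map S.g (n + 1) (w - Sheaf.H.map φ.τ₂ (n + 1) w') = 0 := by
        rw [map_sub, ← comm₂₃, ht, sub_self]
      obtain ⟨x, hx⟩ := exists_of_map_g_eq_zero hS _ h4
      obtain ⟨x', rfl⟩ := h.2 x
      rw [← comm₁₂] at hx
      refine ⟨w' + Sheaf.H.map S.f (n + 1) x', ?_⟩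
      rw [map_add, hx]
      abel
  · intro h
    constructor
    · rw [injective_iff_map_eq_zero]
      intro x hx
      have h3 : Sheaf.H.map S.f (n + 1) x = 0 := by
        apply h.1
        rw [comm₁₂, hx, map_zero, map_zero]
      obtain ⟨y, rfl⟩ := exists_of_map_f_eq_zero hS rfl x h3
      rw [map_del] at hx
      obtain ⟨z, hz⟩ := exists_of_del_eq_zero hS rfl _ hx
      obtain ⟨z', rfl⟩ := h0 z
      rw [← comm₂₃] at hz
      rw [← (hi n).1 hz, del_map_g]
    · intro x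
      obtain ⟨w, hw⟩ := h.2 (Sheaf.H.map S.f (n + 1) x)
      have h3 : Sheaf.H.map S.g (n + 1) w = 0 := by
        apply (hi (n + 1)).1
        rw [comm₂₃, hw, map_g_f, map_zero]
      obtain ⟨v, rfl⟩ := exists_of_map_g_eq_zero hS w h3
      have h4 : Sheaf.H.map S.f (n + 1) (x - Sheaf.H.map φ.τ₁ (n + 1) v) = 0 := by
        rw [map_sub, ← comm₁₂, hw, sub_self]
      obtain ⟨y, hy⟩ := exists_of_map_f_eq_zero hS rfl _ h4
      obtain ⟨y', rfl⟩ := (hi n).2 y
      rw [← map_del] at hy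
      refine ⟨v + del hS rfl y', ?_⟩
      rw [map_add, hy]
      abel

end K675.EndoSeq
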