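import Groth.Agent.Curves.K675.Geo
import Groth.Agent.Sga4h.H569.ZetaMain

/-!
# Frobenius on sections of `π_* O_{C'} / O_C` over an affine open, nodal case
-/

set_option autoImplicit false

universe u

open CategoryTheory CategoryTheory.Limits AlgebraicGeometry TopologicalSpace Opposite

namespace K675.FrobSec

open Groth.Agent.Sga7.H598.SNDef Groth.Agent.Sga7.H598.SNNode K675.SnFrob K675.Geo

/-- The coordinate rings of at-worst-nodal curves are seminormal. -/
theorem sn_sections (k : Type u) [Field k] (Y : Scheme.{u}) [Y.Over (Spec (CommRingCat.of k))]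
    [LocallyOfFinitePresentation (Y ↘ Spec (CommRingCat.of k))]
    (h : Curv2.AtWorstNodal k Y) (U : Y.Opens) (hU : IsAffineOpen U) : SN Γ(Y, U) := by
  have hJ : JacobsonSpace Y := LocallyOfFiniteType.jacobsonSpace (Y ↘ Spec (CommRingCat.of k))
  refine SN.of_localization_maximal _ fun m hm => ?_
  let p : Spec Γ(Y, U) := ⟨m, hm.isPrime⟩
  let x : Y := hU.fromSpec p
  have hxU : x ∈ U := by
    have := hU.range_fromSpec
    exact this.le ⟨p, rfl⟩
  have hp : IsClosed ({p} : Set (Spec Γ(Y, U))) := (PrimeSpectrum.isClosed_singleton_iff_isMaximal p).mpr hm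
  have hx : IsClosed ({x} : Set Y) := by
    have h1 := hU.fromSpec.isOpenEmbedding.preimage_closedPoints
    have h3 : p ∈ hU.fromSpec ⁻¹' (closedPoints Y) := by
      rw [h1]; exact hp
    exact h3
  have h3 := sn_of_atWorstNodal k Y h x hx
  let _ := TopCat.Presheaf.algebra_section_stalk Y.presheaf (⟨x, hxU⟩ : U)
  have h4 : IsLocalization.AtPrime (Y.presheaf.stalk x) (hU.primeIdealOf ⟨x, hxU⟩).asIdeal :=
    hU.isLocalization_stalk ⟨x, hxU⟩
  have h5 : hU.primeIdealOf ⟨x, hxU⟩ = p := by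
    apply hU.fromSpec.isOpenEmbedding.injective
    exact hU.fromSpec_primeIdealOf ⟨x, hxU⟩
  rw [h5] at h4
  exact h3.of_ringEquiv (IsLocalization.algEquiv m.primeCompl (Y.presheaf.stalk x)
    (Localization.AtPrime m)).toRingEquiv

theorem isReduced_of_isNormalScheme (X : Scheme.{u}) (h : Pi1.IsNormalScheme X) : IsReduced X := by
  have : ∀ x : X, _root_.IsReduced (X.presheaf.stalk x) := fun x => by
    have := (h x).1
    infer_instance
  exact isReduced_of_isReduced_stalk X

/-- `p`-th power on the quotient of the sections over an affine open. -/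
theorem frob_sections (k : Type u) [Field k] (p : ℕ) [Fact p.Prime] [CharP k p] [PerfectRing k p]
    {C C' : Scheme.{u}} [C.Over (Spec (CommRingCat.of k))]
    [LocallyOfFinitePresentation (C ↘ Spec (CommRingCat.of k))] [IsReduced C]
    (hdim : ∀ Z ∈ irreducibleComponents (C : Type u), topologicalKrullDim Z = 1)
    (hnod : Curv2.AtWorstNodal k C) (hC' : Pi1.IsNormalScheme C')
    (π : C' ⟶ C) [IsFinite π] (U : C.Opens) (hU : Dense (U : Set C)) (hπU : IsIso (π ∣_ U))
    {V : C.Opens} (hV : IsAffineOpen V) :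
    (∀ x : Γ(C', π ⁻¹ᵁ V), (∃ y, π.app V y = x ^ p) → ∃ y, π.app V y = x) ∧
      ∀ x : Γ(C', π ⁻¹ᵁ V), ∃ (z : Γ(C', π ⁻¹ᵁ V)) (y : Γ(C, V)), x = z ^ p + π.app V y := by
  have hred : IsReduced C' := isReduced_of_isNormalScheme C' hC'
  letI i1 : Algebra Γ(C, V) Γ(C', π ⁻¹ᵁ V) := (π.app V).hom.toAlgebra
  letI i2 : Algebra k Γ(C', π ⁻¹ᵁ V) := ((π.app V).hom.comp (secK (C ↘ Spec (CommRingCat.of k)) V)).toAlgebra
  letI i3 : Algebra k Γ(C, V) := (secK (C ↘ Spec (CommRingCat.of k)) V).toAlgebra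
  haveI i4 : IsScalarTower k Γ(C, V) Γ(C', π ⁻¹ᵁ V) := IsScalarTower.of_algebraMap_eq fun _ => rfl
  have hfin := finite_quot_cond (C ↘ Spec (CommRingCat.of k)) hdim π U hU hπU hV
  obtain ⟨h1, h2⟩ := frob_quot k p (A := Γ(C, V)) (A' := Γ(C', π ⁻¹ᵁ V)) (app_injective π U hU hπU V)
    (sn_sections k C hnod V hV) hfin
  refine ⟨fun x hx => h1 x hx, fun x => ?_⟩
  obtain ⟨z, y, hy⟩ := h2 x
  refine ⟨z, y, ?_⟩
  have hy' : π.app V y = x - z ^ p := hy
  rw [hy']
  ring

/-- `p`-th power on global sections of a reduced proper scheme. -/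
theorem pow_surjective_top (k : Type u) [Field k] (p : ℕ) [Fact p.Prime] [CharP k p] [PerfectRing k p]
    {Y : Scheme.{u}} [Y.Over (Spec (CommRingCat.of k))] [IsProper (Y ↘ Spec (CommRingCat.of k))] [IsReduced Y] :
    Function.Surjective (fun x : Γ(Y, ⊤) => x ^ p) := by
  letI := Groth.Agent.Sga4h.H569.CohRings.algΓ k Y ⊤
  have : FiniteDimensional k Γ(Y, ⊤) := Groth.Agent.Sga4h.H569.ZetaMain.finite_top
  exact (pow_bijective (k := k) (p := p) Γ(Y, ⊤)).2

end K675.FrobSec
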