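import Groth.Agent.Sga7.H598.SNDef
import Mathlib.RingTheory.Jacobson.Artinian
import Mathlib.FieldTheory.Perfect
import Mathlib.Algebra.CharP.Reduced
import Mathlib.Algebra.CharP.Algebra
import Mathlib.RingTheory.KrullDimension.Zero
import Mathlib.LinearAlgebra.Dimension.RankNullity
import Mathlib.LinearAlgebra.FiniteDimensional.Basic

/-!
# Frobenius and finite extensions of seminormal rings

`A ⊆ A'` with `A` seminormal, `A'` reduced: the conductor is a radical ideal of `A'`.  If `A'` modulo the
conductor is finite over a perfect field `k` of characteristic `p`, then `p`-th power is bijective on `A'/A`.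
-/

set_option autoImplicit false

namespace K675.SnFrob

open Groth.Agent.Sga7.H598.SNDef

section Frob

variable {k : Type*} [Field k] {p : ℕ} [Fact p.Prime] [CharP k p] [PerfectRing k p]

/-- `p`-th power is bijective on a finite reduced algebra over a perfect field. -/
theorem pow_bijective (Q : Type*) [CommRing Q] [Algebra k Q] [Module.Finite k Q] [IsReduced Q] :
    Function.Bijective (fun x : Q => x ^ p) := by
  by_cases hQ : Subsingleton Q
  · exact ⟨fun _ _ _ => Subsingleton.elim _ _, fun y => ⟨y, Subsingleton.elim _ _⟩⟩
  have hQ' : Nontrivial Q := not_subsingleton_iff_nontrivial.mp hQ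
  have hchar : CharP Q p := charP_of_injective_algebraMap (algebraMap k Q).injective p
  have hinj : Function.Injective (fun x : Q => x ^ p) := frobenius_inj Q p
  refine ⟨hinj, ?_⟩
  -- the image is a subspace of full dimension
  let σ : k →+* k := (frobeniusEquiv k p : k ≃+* k)
  have hσ : ∀ c, σ c = c ^ p := fun c => by
    change frobeniusEquiv k p c = _
    rw [frobeniusEquiv_apply]; rfl
  let F : Q →ₛₗ[σ] Q :=
    { toFun := fun x => x ^ p
      map_add' := fun x y => add_pow_char x y p
      map_smul' := fun c x => by rw [Algebra.smul_def, mul_pow, ← map_pow, Algebra.smul_def, hσ] }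
  have hs : RingHomSurjective σ := ⟨(frobeniusEquiv k p).surjective⟩
  let W : Submodule k Q := LinearMap.range F
  have hW : Module.finrank k W = Module.finrank k Q := by
    -- transport a basis
    let b := Module.finBasis k Q
    have hli : LinearIndependent k (fun i => F (b i)) := by
      rw [Fintype.linearIndependent_iff]
      intro g hg i
      have h1 : F (∑ j, (frobeniusEquiv k p).symm (g j) • b j) = 0 := by
        rw [map_sum]
        rw [← hg]
        refine Finset.sum_congr rfl fun j _ => ?_
        rw [map_smulₛₗ]
        congr 1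
        exact (frobeniusEquiv k p).apply_symm_apply _
      have h2 : ∑ j, (frobeniusEquiv k p).symm (g j) • b j = 0 := hinj (by
        change F _ = F 0
        rw [h1, map_zero])
      have h3 := (Fintype.linearIndependent_iff.mp b.linearIndependent) _ h2 i
      have := congrArg (frobeniusEquiv k p) h3
      rwa [RingEquiv.apply_symm_apply, map_zero] at this
    have h4 : Submodule.span k (Set.range fun i => F (b i)) ≤ W := by
      rw [Submodule.span_le]
      rintro _ ⟨i, rfl⟩
      exact ⟨b i, rfl⟩
    have h5 := Submodule.finrank_mono h4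
    rw [finrank_span_eq_card hli, Fintype.card_fin] at h5
    exact le_antisymm (Submodule.finrank_le _) h5
  have hW' : W = ⊤ := Submodule.eq_top_of_finrank_eq hW
  intro y
  have : y ∈ W := hW' ▸ Submodule.mem_top
  exact this

end Frob

section Cond

variable {A A' : Type*} [CommRing A] [CommRing A'] [Algebra A A']

/-- The conductor, as an ideal of the larger ring. -/
def cond (A A' : Type*) [CommRing A] [CommRing A'] [Algebra A A'] : Ideal A' where
  carrier := {x | ∀ y : A', x * y ∈ (algebraMap A A').range}
  add_mem' := fun {a b} ha hb y => by rw [add_mul]; exact add_mem (ha y) (hb y)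
  zero_mem' := fun y => by rw [zero_mul]; exact zero_mem _
  smul_mem' := fun c x hx y => by
    rw [smul_eq_mul, mul_comm c x, mul_assoc]; exact hx _

lemma mem_cond {x : A'} : x ∈ cond A A' ↔ ∀ y : A', x * y ∈ (algebraMap A A').range := Iff.rfl

lemma mem_range_of_mem_cond {x : A'} (h : x ∈ cond A A') : x ∈ (algebraMap A A').range := by
  have := h 1
  rwa [mul_one] at this

/-- The conductor of a reduced extension of a seminormal ring is radical. -/
theorem cond_isRadical [IsReduced A'] (hinj : Function.Injective (algebraMap A A')) (hA : SN A) :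
    (cond A A').IsRadical := by
  have key : ∀ x : A', x ^ 2 ∈ cond A A' → x ^ 3 ∈ cond A A' → x ∈ cond A A' := by
    intro x h2 h3 y
    apply hA.mem_range hinj
    · rw [mul_pow]; exact h2 _
    · rw [mul_pow]; exact h3 _
  rintro x ⟨n, hn⟩
  -- descend on the exponent
  have : ∀ n : ℕ, x ^ n ∈ cond A A' → x ∈ cond A A' := by
    intro n
    induction n using Nat.strong_induction_on with
    | _ n ih =>
      intro hn
      rcases Nat.lt_or_ge n 2 with h | h
      · interval_cases n
        · have : (1 : A') ∈ cond A A' := by simpa using hn
          rw [(Ideal.eq_top_iff_one _).mpr this]; trivial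
        · simpa using hn
      · have h1 : x ^ (n - 1) ∈ cond A A' := by
          apply key
          · rw [← pow_mul]
            have : (n - 1) * 2 = n + (n - 2) := by omega
            rw [this, pow_add]
            exact Ideal.mul_mem_right _ _ hn
          · rw [← pow_mul]
            have : (n - 1) * 3 = n + (2 * n - 3) := by omega
            rw [this, pow_add]
            exact Ideal.mul_mem_right _ _ hn
        exact ih (n - 1) (by omega) h1
  exact this n hn

variable (k : Type*) [Field k] (p : ℕ) [Fact p.Prime] [CharP k p] [PerfectRing k p]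
  [Algebra k A] [Algebra k A'] [IsScalarTower k A A']

/-- Frobenius on `A'/A` is bijective. -/
theorem frob_quot [IsReduced A'] (hinj : Function.Injective (algebraMap A A')) (hA : SN A)
    (hfin : Module.Finite k (A' ⧸ cond A A')) :
    (∀ x : A', x ^ p ∈ (algebraMap A A').range → x ∈ (algebraMap A A').range) ∧
      ∀ x : A', ∃ y : A', x - y ^ p ∈ (algebraMap A A').range := by
  have hred : IsReduced (A' ⧸ cond A A') :=
    (Ideal.isRadical_iff_quotient_reduced _).mp (cond_isRadical hinj hA)
  constructor
  · intro x hx
    -- the image of `A` in `A'/cond`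
    let R : Subalgebra k (A' ⧸ cond A A') :=
      ((Ideal.Quotient.mkₐ k (cond A A')).comp (IsScalarTower.toAlgHom k A A')).range
    have hRred : IsReduced R := isReduced_of_injective R.val Subtype.val_injective
    obtain ⟨a, ha⟩ := hx
    have h1 : (Ideal.Quotient.mk (cond A A') (x ^ p)) ∈ R := ⟨a, by rw [← ha]; rfl⟩
    obtain ⟨⟨r, hr⟩, hr2⟩ := (pow_bijective (k := k) (p := p) R).2 ⟨_, h1⟩
    obtain ⟨b, hb⟩ := hr
    have h2 : r ^ p = (Ideal.Quotient.mk (cond A A') x) ^ p := by
      have := congrArg Subtype.val hr2
      rw [← map_pow]
      exact this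
    have h3 : r = Ideal.Quotient.mk (cond A A') x := (pow_bijective (k := k) (p := p) _).1 h2
    have h4 : Ideal.Quotient.mk (cond A A') (algebraMap A A' b) = Ideal.Quotient.mk (cond A A') x :=
      Eq.trans hb h3
    have h5 : algebraMap A A' b - x ∈ cond A A' := (Ideal.Quotient.eq).mp h4
    have h6 := mem_range_of_mem_cond h5
    have : x = algebraMap A A' b - (algebraMap A A' b - x) := by ring
    rw [this]
    exact sub_mem ⟨b, rfl⟩ h6
  · intro x
    obtain ⟨y, hy⟩ := (pow_bijective (k := k) (p := p) (A' ⧸ cond A A')).2 (Ideal.Quotient.mk _ x)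
    obtain ⟨y, rfl⟩ := Ideal.Quotient.mk_surjective y
    refine ⟨y, mem_range_of_mem_cond ?_⟩
    rw [← Ideal.Quotient.eq, ← hy, map_pow]

end Cond

end K675.SnFrob
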