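import Groth.Prelude.Def_Pi1
import Groth.Prelude.Def_CurvBase
import Groth.Agent.Curves.K675.SnFrob
import Groth.Agent.CurvesB.DimPts
import Groth.Agent.CurvesC.ModDim
import Groth.Agent.VarietyB.DimTop
import Groth.Agent.TFNodal.K977.Generic
import Groth.Agent.Sga7.H598.SNNode

/-!
# Frobenius on `π_* O_{C'} / O_C` for a seminormal curve
-/

set_option autoImplicit false

universe u

open CategoryTheory CategoryTheory.Limits AlgebraicGeometry TopologicalSpace Opposite

namespace K675.Geo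

open Groth.Agent.Sga7.H598.SNDef K675.SnFrob

/-- Local rings of points of a reduced scheme with zero-dimensional stalk are fields. -/
lemma isField_stalk (C : Scheme.{u}) [IsReduced C] (x : C) (h : ringKrullDim (C.presheaf.stalk x) = 0) :
    IsField (C.presheaf.stalk x) := by
  have : Ring.KrullDimLE 0 (C.presheaf.stalk x) := by
    rw [Ring.krullDimLE_iff, h]; rfl
  exact Ring.KrullDimLE.isField_of_isReduced

theorem dim_le_one (C : Scheme.{u}) (hdim : ∀ Z ∈ irreducibleComponents (C : Type u), topologicalKrullDim Z = 1) :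
    topologicalKrullDim C ≤ 1 := by
  rw [Groth.Agent.VarietyB.DimTop.topologicalKrullDim_eq_iSup_irreducibleComponents]
  exact iSup_le fun Z => (hdim Z.1 Z.2).le

/-- Non-closed points of a reduced curve lie in every dense open. -/
theorem mem_of_not_isClosed (C : Scheme.{u}) [IsReduced C] [IsLocallyNoetherian C]
    (hdim : ∀ Z ∈ irreducibleComponents (C : Type u), topologicalKrullDim Z = 1)
    (U : C.Opens) (hU : Dense (U : Set C)) (x : C) (hx : ¬ IsClosed ({x} : Set C)) : x ∈ U :=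
  K977.TFGeneric.mem_of_dense U hU x
    (isField_stalk C x
      (Groth.Agent.CurvesB.DimPts.ringKrullDim_stalk_eq_zero_of_not_isClosed (dim_le_one C hdim) x hx))

/-- Injectivity of `O_C ⟶ π_* O_{C'}`. -/
theorem app_injective {C C' : Scheme.{u}} [IsReduced C] (π : C' ⟶ C) (U : C.Opens) (hU : Dense (U : Set C))
    (hπU : IsIso (π ∣_ U)) (V : C.Opens) : Function.Injective (π.app V) := by
  rw [injective_iff_map_eq_zero]
  intro a ha
  rw [← basicOpen_eq_bot_iff]
  by_contra hne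
  have hne' : ((C.basicOpen a : C.Opens) : Set C).Nonempty := by
    rw [Set.nonempty_iff_ne_empty]
    intro h
    exact hne (Opens.ext h)
  obtain ⟨x, hx, hxU⟩ := hU.inter_open_nonempty _ (C.basicOpen a).2 hne'
  let W : C.Opens := V ⊓ U
  have hxV : x ∈ V := C.basicOpen_le a hx
  have h1 : IsIso (π ∣_ W) := Groth.Agent.CurvesC.ModDim.isIso_morphismRestrict_of_le π (inf_le_right : W ≤ U)
  have h2 : IsIso (π.app W) := Groth.Agent.CurvesC.ModDim.isIso_app_of_isIso_morphismRestrict π W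
  have h3 : Function.Injective (π.app W) := ((ConcreteCategory.isIso_iff_bijective (π.app W)).mp h2).1
  have h4 : C.presheaf.map (homOfLE (inf_le_left : W ≤ V)).op a = 0 := by
    apply h3
    rw [map_zero]
    have := π.naturality (homOfLE (inf_le_left : W ≤ V)).op
    have h5 := congrArg (fun t => t.hom a) this
    simp only [CommRingCat.comp_apply] at h5
    rw [h5, ha, map_zero]
  have h5 : C.presheaf.germ V x hxV a = 0 := by
    rw [← C.presheaf.germ_res_apply (homOfLE (inf_le_left : W ≤ V)) x ⟨hxV, hxU⟩ a]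
    rw [h4, map_zero]
  replace hx : x ∈ C.basicOpen a := hx
  rw [C.mem_basicOpen a x hxV, h5] at hx
  exact not_isUnit_zero hx

/-- Sections of `π_* O_{C'}` over an affine open `V` become sections of `O_C` after multiplication by a power of `s`,
`D(s) ⊆ U`. -/
theorem exists_pow_mul_mem {C C' : Scheme.{u}} (π : C' ⟶ C) [IsAffineHom π] (U : C.Opens)
    (hπU : IsIso (π ∣_ U)) {V : C.Opens} (hV : IsAffineOpen V) (s : Γ(C, V)) (hs : C.basicOpen s ≤ U)
    (x : Γ(C', π ⁻¹ᵁ V)) : ∃ (n : ℕ) (a : Γ(C, V)), π.app V a = π.app V s ^ n * x := by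
  have hV' : IsAffineOpen (π ⁻¹ᵁ V) := hV.preimage π
  have hle : C.basicOpen s ≤ V := C.basicOpen_le s
  have h1 : IsIso (π ∣_ (C.basicOpen s)) := Groth.Agent.CurvesC.ModDim.isIso_morphismRestrict_of_le π hs
  have h2 : IsIso (π.app (C.basicOpen s)) :=
    Groth.Agent.CurvesC.ModDim.isIso_app_of_isIso_morphismRestrict π _
  have h3 : Function.Bijective (π.app (C.basicOpen s)) :=
    (ConcreteCategory.isIso_iff_bijective (π.app (C.basicOpen s))).mp h2
  -- restriction of `x` to `π⁻¹ D(s)`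
  let r : Γ(C, V) →+* Γ(C, C.basicOpen s) := (C.presheaf.map (homOfLE hle).op).hom
  let r' : Γ(C', π ⁻¹ᵁ V) →+* Γ(C', π ⁻¹ᵁ (C.basicOpen s)) :=
    (C'.presheaf.map (homOfLE (show π ⁻¹ᵁ (C.basicOpen s) ≤ π ⁻¹ᵁ V from fun y hy => hle hy)).op).hom
  have hnat : ∀ a : Γ(C, V), π.app (C.basicOpen s) (r a) = r' (π.app V a) := by
    intro a
    have := π.naturality (homOfLE hle).op
    exact congrArg (fun t => t.hom a) this
  obtain ⟨b, hb⟩ := h3.2 (r' x)
  have hloc : IsLocalization.Away s Γ(C, C.basicOpen s) := hV.isLocalization_basicOpen s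
  obtain ⟨n, a, ha⟩ := IsLocalization.Away.surj s b
  have ha' : b * r s ^ n = r a := ha
  have hb' : π ⁻¹ᵁ (C.basicOpen s) = C'.basicOpen (π.app V s) := Scheme.preimage_basicOpen π s
  have hkey : ∀ (W : C'.Opens) (hW : W = C'.basicOpen (π.app V s)) (hWV : W ≤ π ⁻¹ᵁ V) (y : Γ(C', π ⁻¹ᵁ V)),
      C'.presheaf.map (homOfLE hWV).op y = 0 → ∃ m : ℕ, π.app V s ^ m * y = 0 := by
    rintro W rfl hWV y hy
    have hloc' : IsLocalization.Away (π.app V s) Γ(C', C'.basicOpen (π.app V s)) :=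
      hV'.isLocalization_basicOpen (π.app V s)
    obtain ⟨⟨_, m, rfl⟩, hm⟩ := (IsLocalization.map_eq_zero_iff (Submonoid.powers (π.app V s))
      Γ(C', C'.basicOpen (π.app V s)) y).mp hy
    exact ⟨m, hm⟩
  have hz : r' (π.app V s ^ n * x - π.app V a) = 0 := by
    rw [map_sub, map_mul, map_pow, ← hnat, ← hnat, ← hb, ← ha']
    have := map_mul (π.app (C.basicOpen s)).hom b (r s ^ n)
    rw [map_pow] at this
    refine sub_eq_zero.mpr ?_
    rw [mul_comm]
    exact this.symm
  obtain ⟨m, hm⟩ := hkey _ hb' (fun y hy => hle hy) _ hz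
  refine ⟨m + n, s ^ m * a, ?_⟩
  rw [map_mul, map_pow]
  have : π.app V s ^ m * π.app V a = π.app V s ^ m * (π.app V s ^ n * x) := by
    rw [mul_sub, sub_eq_zero] at hm
    exact hm.symm
  rw [this, pow_add, mul_assoc]

/-- The structure map to the sections over an open. -/
noncomputable def secK {k : Type u} [Field k] {X : Scheme.{u}} (f : X ⟶ Spec (CommRingCat.of k)) (V : X.Opens) :
    k →+* Γ(X, V) :=
  (f.appLE ⊤ V (by simp)).hom.comp (Scheme.ΓSpecIso (CommRingCat.of k)).inv.hom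

theorem secK_finiteType {k : Type u} [Field k] {X : Scheme.{u}} (f : X ⟶ Spec (CommRingCat.of k))
    [LocallyOfFiniteType f] {V : X.Opens} (hV : IsAffineOpen V) : (secK f V).FiniteType := by
  have h1 := f.finiteType_appLE (isAffineOpen_top _) hV (by simp)
  have h2 : ((Scheme.ΓSpecIso (CommRingCat.of k)).inv.hom).FiniteType :=
    RingHom.FiniteType.of_surjective _
      (ConcreteCategory.bijective_of_isIso (Scheme.ΓSpecIso (CommRingCat.of k)).inv).2
  exact h1.comp h2

/-- The quotient by the conductor is finite over `k`. -/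
theorem finite_quot_cond {k : Type u} [Field k] {C C' : Scheme.{u}} (g : C ⟶ Spec (CommRingCat.of k))
    [LocallyOfFiniteType g] [IsReduced C]
    (hdim : ∀ Z ∈ irreducibleComponents (C : Type u), topologicalKrullDim Z = 1)
    (π : C' ⟶ C) [IsFinite π] (U : C.Opens) (hU : Dense (U : Set C)) (hπU : IsIso (π ∣_ U))
    {V : C.Opens} (hV : IsAffineOpen V) :
    letI : Algebra Γ(C, V) Γ(C', π ⁻¹ᵁ V) := (π.app V).hom.toAlgebra
    letI : Algebra k Γ(C', π ⁻¹ᵁ V) := ((π.app V).hom.comp (secK g V)).toAlgebra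
    Module.Finite k (Γ(C', π ⁻¹ᵁ V) ⧸ cond Γ(C, V) Γ(C', π ⁻¹ᵁ V)) := by
  letI i1 : Algebra Γ(C, V) Γ(C', π ⁻¹ᵁ V) := (π.app V).hom.toAlgebra
  letI i2 : Algebra k Γ(C', π ⁻¹ᵁ V) := ((π.app V).hom.comp (secK g V)).toAlgebra
  letI i3 : Algebra k Γ(C, V) := (secK g V).toAlgebra
  haveI i4 : IsScalarTower k Γ(C, V) Γ(C', π ⁻¹ᵁ V) := IsScalarTower.of_algebraMap_eq fun _ => rfl
  have hft : Algebra.FiniteType k Γ(C, V) := secK_finiteType g hV
  have hfin : Module.Finite Γ(C, V) Γ(C', π ⁻¹ᵁ V) := IsFinite.finite_app π V hV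
  have hN : IsLocallyNoetherian C := Groth.Agent.CurvesB.NodeSch2.isLocallyNoetherian_of_locallyOfFiniteType g
  have hJ : JacobsonSpace C := LocallyOfFiniteType.jacobsonSpace g
  have hft' : Algebra.FiniteType k Γ(C', π ⁻¹ᵁ V) := Algebra.FiniteType.trans hft inferInstance
  have hft'' : Algebra.FiniteType k (Γ(C', π ⁻¹ᵁ V) ⧸ cond Γ(C, V) Γ(C', π ⁻¹ᵁ V)) :=
    Algebra.FiniteType.of_surjective (Ideal.Quotient.mkₐ k (cond Γ(C, V) Γ(C', π ⁻¹ᵁ V)))
      Ideal.Quotient.mk_surjective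
  rw [Module.finite_iff_krullDimLE_zero]
  -- powers in the conductor
  have hcond : ∀ s : Γ(C, V), C.basicOpen s ≤ U → ∃ N : ℕ,
      algebraMap Γ(C, V) Γ(C', π ⁻¹ᵁ V) (s ^ N) ∈ cond Γ(C, V) Γ(C', π ⁻¹ᵁ V) := by
    intro s hs
    obtain ⟨T, hT⟩ := hfin.fg_top
    choose n a ha using fun x => exists_pow_mul_mem π U hπU hV s hs x
    refine ⟨T.sup n, fun y => ?_⟩
    have hy : y ∈ Submodule.span Γ(C, V) (T : Set Γ(C', π ⁻¹ᵁ V)) := hT ▸ Submodule.mem_top
    induction hy using Submodule.span_induction with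
    | mem x hx =>
      have hle : n x ≤ T.sup n := Finset.le_sup hx
      refine ⟨s ^ (T.sup n - n x) * a x, ?_⟩
      have h1 : algebraMap Γ(C, V) Γ(C', π ⁻¹ᵁ V) (a x) =
        algebraMap Γ(C, V) Γ(C', π ⁻¹ᵁ V) s ^ n x * x := ha x
      rw [map_mul, h1, map_pow, map_pow, ← mul_assoc, ← pow_add, Nat.sub_add_cancel hle]
    | zero => rw [mul_zero]; exact zero_mem _
    | add x y _ _ hx hy => rw [mul_add]; exact add_mem hx hy
    | smul c x _ hx =>
      rw [Algebra.smul_def, mul_left_comm]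
      exact mul_mem ⟨c, rfl⟩ hx
  refine Ring.KrullDimLE.mk₀ fun P hP => ?_
  -- pull back to the larger ring
  let P' : Ideal Γ(C', π ⁻¹ᵁ V) := P.comap (Ideal.Quotient.mk _)
  have hP' : P'.IsPrime := Ideal.comap_isPrime _ _
  have hle : cond Γ(C, V) Γ(C', π ⁻¹ᵁ V) ≤ P' := fun x hx => by
    change Ideal.Quotient.mk _ x ∈ P
    rw [Ideal.Quotient.eq_zero_iff_mem.mpr hx]
    exact zero_mem _
  let p : Ideal Γ(C, V) := P'.comap (algebraMap _ _)
  have hp : p.IsPrime := Ideal.comap_isPrime _ _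
  have hpmax : p.IsMaximal := by
    by_contra hnm
    let pt : Spec Γ(C, V) := ⟨p, hp⟩
    let x : C := hV.fromSpec pt
    have hxV : x ∈ V := by
      have := hV.range_fromSpec
      exact this.le ⟨pt, rfl⟩
    have hpc : ¬ IsClosed ({pt} : Set (Spec Γ(C, V))) := fun h =>
      hnm ((PrimeSpectrum.isClosed_singleton_iff_isMaximal pt).mp h)
    have hx : ¬ IsClosed ({x} : Set C) := by
      intro h
      apply hpc
      have h1 := hV.fromSpec.isOpenEmbedding.preimage_closedPoints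
      have h3 : pt ∈ hV.fromSpec ⁻¹' (closedPoints C) := h
      rw [h1] at h3
      exact h3
    have hxU := mem_of_not_isClosed C hdim U hU x hx
    obtain ⟨s, hs1, hs2⟩ := hV.exists_basicOpen_le (V := U) ⟨x, hxU⟩ hxV
    obtain ⟨N, hN⟩ := hcond s hs1
    have h4 : s ^ N ∈ p := hle hN
    have h5 : s ∈ p := hp.mem_of_pow_mem N h4
    have h6 : pt ∉ PrimeSpectrum.basicOpen s := fun h => h h5
    apply h6
    have h7 : hV.fromSpec ⁻¹ᵁ (C.basicOpen s) = PrimeSpectrum.basicOpen s := hV.fromSpec_preimage_basicOpen s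
    rw [← h7]
    exact hs2
  have hP'max : P'.IsMaximal := Ideal.isMaximal_of_isIntegral_of_isMaximal_comap P' hpmax
  have : P = P'.map (Ideal.Quotient.mk _) := by
    rw [Ideal.map_comap_of_surjective _ Ideal.Quotient.mk_surjective]
  rw [this]
  exact Ideal.IsMaximal.map_of_surjective_of_ker_le Ideal.Quotient.mk_surjective (by
    rw [Ideal.mk_ker]; exact hle)

end K675.Geo
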