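import Groth.Agent.Curves.K675.EndoSeq
import Mathlib.CategoryTheory.Sites.EpiMono
import Mathlib.CategoryTheory.Sites.LocallySurjective
import Mathlib.Algebra.Homology.ShortComplex.Ab

/-!
# The endomorphism induced on a quotient sheaf
-/

set_option autoImplicit false

universe u

open CategoryTheory CategoryTheory.Limits AlgebraicGeometry TopologicalSpace Opposite

namespace K675.QuotEndo

variable {X : TopCat.{u}}

theorem exists_local_lift {F G : CohTop.Ab X} (g : F ⟶ G) [Epi g] {U : Opens X} (s : G.obj.obj (op U))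
    (x : X) (hx : x ∈ U) : ∃ (V : Opens X) (i : V ⟶ U) (_ : x ∈ V) (t : F.obj.obj (op V)),
      (g.hom.app (op V)).hom t = (G.obj.map i.op).hom s := by
  have h1 : Sheaf.IsLocallySurjective g := (Sheaf.isLocallySurjective_iff_epi' AddCommGrpCat.{u} g).2 inferInstance
  obtain ⟨V, i, ⟨t, ht⟩, hxV⟩ := h1.imageSieve_mem s x hx
  exact ⟨V, i, hxV, t, ht⟩

theorem epi_of_local {F G : CohTop.Ab X} (g : F ⟶ G)
    (h : ∀ (U : Opens X) (s : G.obj.obj (op U)) (x : X), x ∈ U → ∃ (V : Opens X) (i : V ⟶ U) (_ : x ∈ V)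
      (t : F.obj.obj (op V)), (g.hom.app (op V)).hom t = (G.obj.map i.op).hom s) : Epi g := by
  rw [← Sheaf.isLocallySurjective_iff_epi' AddCommGrpCat.{u} g]
  constructor
  intro U s x hx
  obtain ⟨V, i, hxV, t, ht⟩ := h U s x hx
  exact ⟨V, i, ⟨t, ht⟩, hxV⟩

theorem eq_zero_of_local {G : CohTop.Ab X} {U : Opens X} (s : G.obj.obj (op U))
    (h : ∀ x ∈ U, ∃ (V : Opens X) (i : V ⟶ U) (_ : x ∈ V), (G.obj.map i.op).hom s = 0) : s = 0 := by
  choose V i hV hs using h
  refine TopCat.Sheaf.eq_of_locally_eq' (X := X) G (fun x : U => V x.1 x.2) U (fun x => i x.1 x.2) ?_ _ _ ?_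
  · intro x hx
    exact Opens.mem_iSup.mpr ⟨⟨x, hx⟩, hV x hx⟩
  · intro x
    refine (hs x.1 x.2).trans ?_
    exact (map_zero (G.obj.map (i x.1 x.2).op).hom).symm

theorem exists_of_eq_zero {S : ShortComplex (CohTop.Ab X)} (hS : S.ShortExact) {U : Opens X}
    (x : S.X₂.obj.obj (op U)) (hx : (S.g.hom.app (op U)).hom x = 0) :
    ∃ y : S.X₁.obj.obj (op U), (S.f.hom.app (op U)).hom y = x := by
  let F : CohTop.Ab X ⥤ AddCommGrpCat.{u} :=
    sheafToPresheaf (Opens.grothendieckTopology X) AddCommGrpCat.{u} ⋙ (evaluation _ _).obj (op U)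
  have hF : PreservesFiniteLimits F := inferInstance
  have hm := hS.mono_f
  have h3 : (S.map F).Exact := by
    have := (F.preservesFiniteLimits_tfae.out 3 1 :)
    exact ((this.1 inferInstance) S ⟨hS.exact, hm⟩).1
  rw [ShortComplex.ab_exact_iff] at h3
  exact h3 x hx

/-- The induced endomorphism of the quotient sheaf is an isomorphism if it is bijective on the quotients of
sections over a basis. -/
theorem isIso_τ₃ {S : ShortComplex (CohTop.Ab X)} (hS : S.ShortExact) (φ : S ⟶ S)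
    (B : Set (Opens X)) (hB : Opens.IsBasis B)
    (hinj : ∀ V ∈ B, ∀ x : S.X₂.obj.obj (op V),
      (∃ y, (S.f.hom.app (op V)).hom y = (φ.τ₂.hom.app (op V)).hom x) → ∃ y, (S.f.hom.app (op V)).hom y = x)
    (hsurj : ∀ V ∈ B, ∀ x : S.X₂.obj.obj (op V), ∃ (z : S.X₂.obj.obj (op V)) (y : S.X₁.obj.obj (op V)),
      x = (φ.τ₂.hom.app (op V)).hom z + (S.f.hom.app (op V)).hom y) : IsIso φ.τ₃ := by
  have hg := hS.epi_g
  -- elementwise identities
  have hfg : ∀ (V : Opens X) (y : S.X₁.obj.obj (op V)), (S.g.hom.app (op V)).hom ((S.f.hom.app (op V)).hom y) = 0 := by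
    intro V y
    have : S.f.hom ≫ S.g.hom = 0 := congrArg (fun t => t.hom) S.zero
    exact congrArg (fun t => (t.app (op V)).hom y) this
  have hgφ : ∀ (V : Opens X) (y : S.X₂.obj.obj (op V)), (φ.τ₃.hom.app (op V)).hom ((S.g.hom.app (op V)).hom y) =
      (S.g.hom.app (op V)).hom ((φ.τ₂.hom.app (op V)).hom y) := by
    intro V y
    have : S.g.hom ≫ φ.τ₃.hom = φ.τ₂.hom ≫ S.g.hom := congrArg (fun t => t.hom) φ.comm₂₃.symm
    exact congrArg (fun t => (t.app (op V)).hom y) this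
  have hnat : ∀ {F G : CohTop.Ab X} (f : F ⟶ G) {V W : Opens X} (i : W ⟶ V) (y : F.obj.obj (op V)),
      (f.hom.app (op W)).hom ((F.obj.map i.op).hom y) = (G.obj.map i.op).hom ((f.hom.app (op V)).hom y) :=
    fun f _ _ i y => congrArg (fun t => t.hom y) (f.hom.naturality i.op)
  have hmm : ∀ {F : CohTop.Ab X} {U V W : Opens X} (i : V ⟶ U) (j : W ⟶ V) (y : F.obj.obj (op U)),
      (F.obj.map j.op).hom ((F.obj.map i.op).hom y) = (F.obj.map (j ≫ i).op).hom y := by
    intro F U V W i j y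
    rw [op_comp, F.obj.map_comp]
    rfl
  -- local lifts over members of the basis
  have hlift : ∀ (U : Opens X) (s : S.X₃.obj.obj (op U)) (x : X), x ∈ U → ∃ (V : Opens X) (i : V ⟶ U) (_ : x ∈ V)
      (_ : V ∈ B) (t : S.X₂.obj.obj (op V)), (S.g.hom.app (op V)).hom t = (S.X₃.obj.map i.op).hom s := by
    intro U s x hx
    obtain ⟨V, i, hxV, t, ht⟩ := exists_local_lift S.g s x hx
    obtain ⟨W, hWB, hxW, hWV⟩ := (Opens.isBasis_iff_nbhd.mp hB) hxV
    refine ⟨W, homOfLE hWV ≫ i, hxW, hWB, (S.X₂.obj.map (homOfLE hWV).op).hom t, ?_⟩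
    rw [hnat, ht, hmm]
  have h1 : Epi φ.τ₃ := by
    apply epi_of_local
    intro U s x hx
    obtain ⟨V, i, hxV, hVB, t, ht⟩ := hlift U s x hx
    obtain ⟨z, y, hzy⟩ := hsurj V hVB t
    refine ⟨V, i, hxV, (S.g.hom.app (op V)).hom z, ?_⟩
    rw [hgφ, ← ht, hzy, map_add, hfg, add_zero]
  have h2 : Mono φ.τ₃ := by
    apply Preadditive.mono_of_cancel_zero
    intro T t ht
    have key : ∀ (U : Opens X) (z : T.obj.obj (op U)), (t.hom.app (op U)).hom z = 0 := by
      intro U z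
      apply eq_zero_of_local
      intro x hx
      obtain ⟨V, i, hxV, hVB, w, hw⟩ := hlift U ((t.hom.app (op U)).hom z) x hx
      refine ⟨V, i, hxV, ?_⟩
      have h3 : (φ.τ₃.hom.app (op V)).hom ((S.g.hom.app (op V)).hom w) = 0 := by
        rw [hw, ← hnat t i z]
        have : t.hom ≫ φ.τ₃.hom = 0 := congrArg (fun t => t.hom) ht
        exact congrArg (fun s => (s.app (op V)).hom ((T.obj.map i.op).hom z)) this
      rw [hgφ] at h3
      obtain ⟨y, hy⟩ := exists_of_eq_zero hS _ h3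
      obtain ⟨y', hy'⟩ := hinj V hVB w ⟨y, hy⟩
      rw [← hw, ← hy', hfg]
    apply ObjectProperty.hom_ext
    ext U z
    exact key U.unop z
  exact isIso_of_mono_of_epi _

end K675.QuotEndo
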