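import Groth.Agent.Curves.K675.PushOne
import Groth.Agent.Curves.K675.EndoSeq
import Groth.Agent.Curves.K675.QuotEndo
import Groth.Agent.Curves.K675.FrobSec
import Groth.Agent.CohtopA.SpectralVanish
import Groth.Agent.Fga.UnitRestrict
import Groth.Agent.CurvesC.UnitCoh

/-!
# Frobenius on `H¹` of a nodal curve and of its normalization
-/

set_option autoImplicit false

universe u

open CategoryTheory CategoryTheory.Limits AlgebraicGeometry TopologicalSpace Opposite

namespace K675.NodFrob

open K56.PMap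

theorem surjective_H0_aux {X : TopCat.{u}} {F G : CohTop.Ab X} (f : F ⟶ G)
    (h : Function.Surjective (f.hom.app (op ⊤)).hom) : Function.Surjective (Sheaf.H.map f 0) := by
  intro y
  obtain ⟨x, hx⟩ := h (Sheaf.H.equiv₀ G (isTerminalTop : IsTerminal (⊤ : Opens X)) y)
  refine ⟨(Sheaf.H.equiv₀ F (isTerminalTop : IsTerminal (⊤ : Opens X))).symm x, ?_⟩
  rw [Sheaf.H.equiv₀_symm_naturality]
  exact (Sheaf.H.equiv₀ G (isTerminalTop : IsTerminal (⊤ : Opens X))).injective
    ((AddEquiv.apply_symm_apply _ _).trans hx)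

section Gen

variable {C C' : Scheme.{u}} (π : C' ⟶ C)

/-- `O_C ⟶ π_* O_{C'}` on underlying abelian sheaves. -/
noncomputable def β : Coh.toAb (Coh.structureModule C) ⟶
    (CohTop.push π.base).obj (Coh.toAb (Coh.structureModule C')) :=
  (SheafOfModules.toSheaf C.ringCatSheaf).map (Groth.Agent.Fga.UnitRestrict.unitToPush π)

theorem β_app (V : C.Opens) (a : Γ(C, V)) :
    ((β π).hom.app (op V)).hom a = π.app V a := rfl

theorem mono_β (h : ∀ V : C.Opens, Function.Injective (π.app V)) : Mono (β π) := by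
  apply Preadditive.mono_of_cancel_zero
  intro T t ht
  apply ObjectProperty.hom_ext
  ext U z
  apply h U.unop
  have : t.hom ≫ (β π).hom = 0 := congrArg (fun t => t.hom) ht
  have h1 := congrArg (fun s => (s.app U).hom z) this
  refine Eq.trans h1 ?_
  exact (map_zero (π.app U.unop).hom).symm

/-- the sequence `0 ⟶ O_C ⟶ π_* O_{C'} ⟶ Q ⟶ 0` -/
noncomputable def S : ShortComplex (CohTop.Ab C.toTopCat) :=
  ShortComplex.mk (β π) (cokernel.π (β π)) (cokernel.condition _)

theorem S_shortExact (h : ∀ V : C.Opens, Function.Injective (π.app V)) : (S π).ShortExact := by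
  have := mono_β π h
  exact { exact := ShortComplex.exact_cokernel (β π)
          mono_f := this
          epi_g := inferInstanceAs (Epi (cokernel.π (β π))) }

variable {p : ℕ} (φ : Coh.toAb (Coh.structureModule C) ⟶ Coh.toAb (Coh.structureModule C))
    (hφ : ∀ (V : C.Opens) (s : Γ(C, V)), (φ.hom.app (op V)).hom s = s ^ p)
    (φ' : Coh.toAb (Coh.structureModule C') ⟶ Coh.toAb (Coh.structureModule C'))
    (hφ' : ∀ (V : C'.Opens) (s : Γ(C', V)), (φ'.hom.app (op V)).hom s = s ^ p)

include hφ hφ' in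
theorem comm : φ ≫ β π = β π ≫ (CohTop.push π.base).map φ' := by
  apply ObjectProperty.hom_ext
  ext U z
  refine (congrArg (fun t => π.app U.unop t) (hφ U.unop z)).trans ?_
  refine (map_pow (π.app U.unop).hom (show Γ(C, U.unop) from z) p).trans ?_
  exact (hφ' (π ⁻¹ᵁ U.unop) (π.app U.unop z)).symm

/-- the induced endomorphism -/
noncomputable def Φ : S π ⟶ S π where
  τ₁ := φ
  τ₂ := (CohTop.push π.base).map φ'
  τ₃ := cokernel.map (β π) (β π) φ ((CohTop.push π.base).map φ') (comm π φ hφ φ' hφ').symm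
  comm₁₂ := comm π φ hφ φ' hφ'
  comm₂₃ := (cokernel.π_desc _ _ _).symm

theorem bijective_push_iff [IsAffineHom π] :
    Function.Bijective (Sheaf.H.map ((CohTop.push π.base).map φ') 1) ↔
      Function.Bijective (Sheaf.H.map φ' 1) := by
  have hq : Coh.IsQCoh (Coh.structureModule C') := Groth.Agent.CurvesC.UnitCoh.isQCoh_unit C'
  have h1 := PushOne.pm_one_bijective_of_isAffineHom π (Coh.structureModule C')
  have hcomm : ∀ x, pm π.base (𝟙 ((CohTop.push π.base).obj (Coh.toAb (Coh.structureModule C')))) 1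
      (Sheaf.H.map ((CohTop.push π.base).map φ') 1 x) =
      Sheaf.H.map φ' 1 (pm π.base (𝟙 ((CohTop.push π.base).obj (Coh.toAb (Coh.structureModule C')))) 1 x) := by
    intro x
    rw [← pm_map_left, ← pm_map_right, Category.comp_id, Category.id_comp]
  constructor
  · intro h
    rw [← Function.Bijective.of_comp_iff _ h1]
    have : (Sheaf.H.map φ' 1) ∘ (pm π.base (𝟙 ((CohTop.push π.base).obj (Coh.toAb (Coh.structureModule C')))) 1) =
      (pm π.base (𝟙 ((CohTop.push π.base).obj (Coh.toAb (Coh.structureModule C')))) 1) ∘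
        (Sheaf.H.map ((CohTop.push π.base).map φ') 1) := funext fun x => (hcomm x).symm
    rw [this]
    exact h1.comp h
  · intro h
    rw [← Function.Bijective.of_comp_iff' h1]
    have : (pm π.base (𝟙 ((CohTop.push π.base).obj (Coh.toAb (Coh.structureModule C')))) 1) ∘
        (Sheaf.H.map ((CohTop.push π.base).map φ') 1) = (Sheaf.H.map φ' 1) ∘
        (pm π.base (𝟙 ((CohTop.push π.base).obj (Coh.toAb (Coh.structureModule C')))) 1) := funext hcomm
    rw [this]
    exact h.comp h1

include hφ' in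
theorem surjective_H0 (h : Function.Surjective (fun x : Γ(C', ⊤) => x ^ p)) :
    Function.Surjective (Sheaf.H.map ((CohTop.push π.base).map φ') 0) := by
  refine surjective_H0_aux ((CohTop.push π.base).map φ') ?_
  intro y
  obtain ⟨x, hx⟩ := h y
  exact ⟨x, (hφ' ⊤ x).trans hx⟩

end Gen

theorem main (k : Type u) [Field k] [IsAlgClosed k]
    (p : ℕ) [Fact p.Prime] [CharP k p]
    (C : Scheme.{u}) [C.Over (Spec (CommRingCat.of k))] [IsReduced C] [IsProper (C ↘ Spec (CommRingCat.of k))]
    (hdim : ∀ Z ∈ irreducibleComponents (C : Type u), topologicalKrullDim Z = 1)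
    (hnod : Curv2.AtWorstNodal k C)
    (C' : Scheme.{u}) (π : C' ⟶ C) [IsFinite π] (hC' : Pi1.IsNormalScheme C')
    (U : C.Opens) (hU : Dense (U : Set C)) (hπU : IsIso (π ∣_ U))
    (φ : Coh.toAb (Coh.structureModule C) ⟶ Coh.toAb (Coh.structureModule C))
    (hφ : ∀ (V : C.Opens) (s : Γ(C, V)), (φ.hom.app (op V)).hom s = s ^ p)
    (φ' : Coh.toAb (Coh.structureModule C') ⟶ Coh.toAb (Coh.structureModule C'))
    (hφ' : ∀ (V : C'.Opens) (s : Γ(C', V)), (φ'.hom.app (op V)).hom s = s ^ p) :
    Function.Bijective (Sheaf.H.map φ 1) ↔ Function.Bijective (Sheaf.H.map φ' 1) := by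
  rw [← bijective_push_iff π φ']
  have hinj := Geo.app_injective π U hU hπU
  have hS := S_shortExact π hinj
  have hred : IsReduced C' := FrobSec.isReduced_of_isNormalScheme C' hC'
  have hperf : PerfectRing k p := inferInstance
  have hfp : LocallyOfFinitePresentation (C ↘ Spec (CommRingCat.of k)) := by
    have : IsLocallyNoetherian (Spec (CommRingCat.of k)) := inferInstance
    infer_instance
  let _ : C'.Over (Spec (CommRingCat.of k)) := ⟨π ≫ (C ↘ Spec (CommRingCat.of k))⟩
  have hprop : IsProper (C' ↘ Spec (CommRingCat.of k)) :=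
    inferInstanceAs (IsProper (π ≫ (C ↘ Spec (CommRingCat.of k))))
  refine EndoSeq.bijective_iff hS (Φ π φ hφ φ' hφ') ?_ 0 ?_ ?_
  · refine QuotEndo.isIso_τ₃ hS (Φ π φ hφ φ' hφ') C.affineOpens C.isBasis_affineOpens ?_ ?_
    · intro V hV x hx
      have h := (FrobSec.frob_sections k p hdim hnod hC' π U hU hπU (V := V) hV).1 x
      obtain ⟨y, hy⟩ := hx
      exact h ⟨y, Eq.trans hy (hφ' (π ⁻¹ᵁ V) x)⟩
    · intro V hV x
      obtain ⟨z, y, h⟩ := (FrobSec.frob_sections k p hdim hnod hC' π U hU hπU (V := V) hV).2 x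
      refine ⟨z, y, Eq.trans h ?_⟩
      have h2 : z ^ p = (φ'.hom.app (op (π ⁻¹ᵁ V))).hom z := (hφ' (π ⁻¹ᵁ V) z).symm
      exact congrArg (fun t => t + π.app V y) h2
  · exact surjective_H0 π φ' hφ' (FrobSec.pow_surjective_top k p (Y := C'))
  · have hc : CompactSpace C := QuasiCompact.compactSpace_of_compactSpace (C ↘ Spec (CommRingCat.of k))
    have hqs : QuasiSeparatedSpace C := quasiSeparatedSpace_of_quasiSeparated (C ↘ Spec (CommRingCat.of k))
    have hsp0 : SpectralSpace C := {}
    have hsp : SpectralSpace C.toTopCat := hsp0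
    have h2 := Groth.Agent.CohtopA.SpectralVanish.subsingleton_H (X := C.toTopCat)
      (Coh.toAb (Coh.structureModule C)) 1 (Geo.dim_le_one C hdim) (0 + 2) (by norm_num)
    exact fun x y _ => h2.elim _ _

end K675.NodFrob
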