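import Groth.Agent.Coherent.K56.PMap
import Groth.Agent.Cohder.RDAcyc
import Groth.Agent.CohqA.HDIZero

/-!
# The edge map in degree one

For `f : X ⟶ Y` continuous and an abelian sheaf `H` on `X` with `R¹ f_* H = 0` the map
`H¹(Y, f_* H) ⟶ H¹(X, H)` is bijective (naturally in all maps of abelian sheaves).
-/

set_option autoImplicit false

universe u

open CategoryTheory CategoryTheory.Limits AlgebraicGeometry TopologicalSpace Opposite

namespace K675.PushOne

open K56.PMap

section Top

variable {X Y : TopCat.{u}}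

/-- In degree zero the edge map is bijective. -/
theorem pm_zero_bijective (f : X ⟶ Y) (H : CohTop.Ab X) :
    Function.Bijective (pm f (𝟙 ((CohTop.push f).obj H)) 0) := by
  have key : ∀ x, Sheaf.H.equiv₀ H (isTerminalTop : IsTerminal (⊤ : Opens X))
      (pm f (𝟙 ((CohTop.push f).obj H)) 0 x) =
        (Sheaf.H.equiv₀ ((CohTop.push f).obj H) (isTerminalTop : IsTerminal (⊤ : Opens Y)) x :) := by
    intro x
    rw [equiv₀_pm]
    rfl
  constructor
  · intro x y hxy
    apply (Sheaf.H.equiv₀ ((CohTop.push f).obj H) (isTerminalTop : IsTerminal (⊤ : Opens Y))).injective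
    exact (key x).symm.trans ((congrArg _ hxy).trans (key y))
  · intro y
    refine ⟨(Sheaf.H.equiv₀ ((CohTop.push f).obj H) (isTerminalTop : IsTerminal (⊤ : Opens Y))).symm
      (Sheaf.H.equiv₀ H (isTerminalTop : IsTerminal (⊤ : Opens X)) y), ?_⟩
    apply (Sheaf.H.equiv₀ H (isTerminalTop : IsTerminal (⊤ : Opens X))).injective
    refine (key _).trans ?_
    exact AddEquiv.apply_symm_apply _ _

/-- The five lemma in degree one for the pullback maps attached to a map of short exact sequences with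
acyclic middle terms. -/
theorem pm_one_bijective_aux (f : X ⟶ Y) {S : ShortComplex (CohTop.Ab Y)} {S' : ShortComplex (CohTop.Ab X)}
    (hS : S.ShortExact) (hS' : S'.ShortExact)
    (ψ₁ : S.X₁ ⟶ (CohTop.push f).obj S'.X₁) (ψ₂ : S.X₂ ⟶ (CohTop.push f).obj S'.X₂)
    (ψ₃ : S.X₃ ⟶ (CohTop.push f).obj S'.X₃)
    (h₁ : S.f ≫ ψ₂ = ψ₁ ≫ (CohTop.push f).map S'.f)
    (h₂ : S.g ≫ ψ₃ = ψ₂ ≫ (CohTop.push f).map S'.g)
    (hI : Injective S.X₂) (hI' : Injective S'.X₂)
    (hb₂ : Function.Surjective (pm f ψ₂ 0)) (hb₃ : Function.Bijective (pm f ψ₃ 0)) :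
    Function.Bijective (pm f ψ₁ 1) := by
  have hcomm := fun y => pm_extClass f hS hS' ψ₁ ψ₂ ψ₃ h₁ h₂ (rfl : 0 + 1 = 1) y
  constructor
  · rw [injective_iff_map_eq_zero]
    intro x hx
    obtain ⟨y, rfl⟩ := Abelian.Ext.covariant_sequence_exact₁ _ hS x
      (Abelian.Ext.eq_zero_of_injective _) (rfl : 0 + 1 = 1)
    have hx' := (hcomm y).symm.trans hx
    obtain ⟨z, hz⟩ := Abelian.Ext.covariant_sequence_exact₃ _ hS' _ (rfl : 0 + 1 = 1) hx'
    obtain ⟨z', rfl⟩ := hb₂ z
    have h1 : pm f ψ₃ 0 (Sheaf.H.map S.g 0 z') = pm f ψ₃ 0 y := by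
      rw [← pm_map_left, h₂, pm_map_right]
      exact hz
    have h2 := hb₃.1 h1
    rw [← h2]
    refine (Abelian.Ext.comp_assoc z' _ _ (add_zero 0) (zero_add 1) (by omega)).trans ?_
    have h3 : (Abelian.Ext.mk₀ S.g).comp hS.extClass (zero_add 1) = 0 := hS.comp_extClass
    rw [h3, Abelian.Ext.comp_zero]
  · intro x
    obtain ⟨y, rfl⟩ := Abelian.Ext.covariant_sequence_exact₁ _ hS' x
      (Abelian.Ext.eq_zero_of_injective _) (rfl : 0 + 1 = 1)
    obtain ⟨y', rfl⟩ := hb₃.2 y
    exact ⟨_, hcomm y'⟩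

/-- The edge map in degree one, from a short exact sequence preserved by `f_*` with injective middle term. -/
theorem pm_one_bijective (f : X ⟶ Y) {S' : ShortComplex (CohTop.Ab X)} (hS' : S'.ShortExact)
    (hI : Injective S'.X₂) (hS : (S'.map (CohTop.push f)).ShortExact) :
    Function.Bijective (pm f (𝟙 ((CohTop.push f).obj S'.X₁)) 1) := by
  have hI2 : Injective ((CohTop.push f).obj S'.X₂) :=
    Injective.injective_of_adjoint (CohPull.invPushAdj f) _
  exact pm_one_bijective_aux f (S := S'.map (CohTop.push f)) hS hS' (𝟙 ((CohTop.push f).obj S'.X₁))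
    (𝟙 ((CohTop.push f).obj S'.X₂)) (𝟙 ((CohTop.push f).obj S'.X₃))
    ((Category.comp_id _).trans (Category.id_comp _).symm)
    ((Category.comp_id _).trans (Category.id_comp _).symm) hI2 hI
    (pm_zero_bijective f S'.X₂).2 (pm_zero_bijective f S'.X₃)

end Top

/-- The edge map in degree one is bijective when `R¹ f_* H = 0`. -/
theorem pm_one_bijective_of_isZero {X Y : Scheme.{u}} (f : X ⟶ Y)
    (H : Sheaf (Opens.grothendieckTopology X) AddCommGrpCat.{u})
    (h : IsZero ((Coh.RpushAb f 1).obj H)) :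
    Function.Bijective (pm f.base (𝟙 ((CohTop.push f.base).obj H)) 1) := by
  obtain ⟨S, hS, hI, hX⟩ := exists_ses (Y := X.toTopCat) H
  subst hX
  have h1 : PreservesFiniteLimits (Coh.pushAb f) := by
    have : (Coh.pushAb f).IsRightAdjoint := (CohPull.invPushAdj f.base).isRightAdjoint
    infer_instance
  have h2 : (S.map (Coh.pushAb f)).ShortExact :=
    Groth.Agent.Cohder.RDAcyc.map_shortExact (Coh.pushAb f) hS h
  exact pm_one_bijective f.base hS hI h2

/-- The edge map in degree one of a quasi-coherent module along an affine morphism. -/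
theorem pm_one_bijective_of_isAffineHom {X Y : Scheme.{u}} (f : X ⟶ Y) [IsAffineHom f] (M : X.Modules)
    [Coh.IsQCoh M] :
    Function.Bijective (pm f.base (𝟙 ((CohTop.push f.base).obj (Coh.toAb M))) 1) :=
  pm_one_bijective_of_isZero f _
    (Groth.Agent.CohqA.HDIZero.isZero_RpushAb_of_isAffineHom f M 1 one_pos)

end K675.PushOne
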